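import Cfsg.Agent.Lib.ChevCent.Basic
import Cfsg.Agent.Lib.Chev.All
import Cfsg.Agent.Lib.Chev.Steinberg
import Cfsg.Agent.Lib.Chev.RootOrbit

/-!
Multiplication in the positive unipotent subgroup of the Chevalley group of type G2 in characteristic two.
-/

set_option autoImplicit false

namespace Cfsg.Agent.Lib.H59.G2InvTwo

open Cfsg.Lie Cfsg.Agent.Lib.Chev Cfsg.Agent.Lib.ChevCent

theorem rooted : Rooted chevG2 G2.cert := ⟨checked_G2, descent_G2⟩

variable {F : Type*} [Field F]

/-- A root element of `G2`. -/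
noncomputable def X (r : ℕ) (t : F) : GL chevG2.Idx F := xg rooted.toChecked r t

theorem X_zero (r : ℕ) : X r (0 : F) = 1 := xg_zero _ _

theorem X_merge (r : ℕ) (a b : F) : X r a * X r b = X r (a + b) := (xg_add _ r a b).symm

theorem X_merge' (r : ℕ) (a b : F) (w : GL chevG2.Idx F) : X r a * (X r b * w) = X r (a + b) * w := by
  rw [← mul_assoc, X_merge]

theorem swap_aux {r s : ℕ} (hr : r < 12) (hs : s < 12) (h1 : s ≠ r) (h2 : s ≠ ng chevG2 r) (a b : F) :
    X s a * X r b = ((cTerms G2.cert r s).map fun c => X c.1 ((c.2.1 : F) * b ^ c.2.2.1 * (-a) ^ c.2.2.2)).prod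
      * X r b * X s a := by
  have e := conj_xg (F := F) rooted.toChecked (r := r) (s := s) hr hs h1 h2 a b
  rw [mul_inv_eq_iff_eq_mul] at e
  exact e

variable [CharP F 2]

theorem three_eq_one : (3 : F) = 1 := by
  have h : (2 : F) = 0 := CharTwo.two_eq_zero
  linear_combination h

theorem swap76 (a b : F) : X 7 a * X 6 b = X 8 (a * b) * (X 9 (a ^ 2 * b) * (X 10 (a ^ 3 * b) * (X 6 b * X 7 a))) := by
  rw [swap_aux (by norm_num) (by norm_num) (by norm_num) (by decide +kernel),
    show cTerms G2.cert 6 7 = [(8, 1, 1, 1), (9, 1, 1, 2), (10, -1, 1, 3), (11, -2, 2, 3)] by decide +kernel]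
  simp [mul_assoc, CharTwo.neg_eq, CharTwo.two_eq_zero, X_zero, mul_comm b]

theorem swap106 (a b : F) : X 10 a * X 6 b = X 11 (a * b) * (X 6 b * X 10 a) := by
  rw [swap_aux (by norm_num) (by norm_num) (by norm_num) (by decide +kernel),
    show cTerms G2.cert 6 10 = [(11, 1, 1, 1)] by decide +kernel]
  simp [mul_assoc, CharTwo.neg_eq, mul_comm b]

theorem swap87 (a b : F) : X 8 a * X 7 b = X 10 (b ^ 2 * a) * (X 11 (b * a ^ 2) * (X 7 b * X 8 a)) := by
  rw [swap_aux (by norm_num) (by norm_num) (by norm_num) (by decide +kernel),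
    show cTerms G2.cert 7 8 = [(9, -2, 1, 1), (10, -3, 2, 1), (11, 3, 1, 2)] by decide +kernel]
  simp [mul_assoc, CharTwo.neg_eq, CharTwo.two_eq_zero, X_zero, three_eq_one]

theorem swap97 (a b : F) : X 9 a * X 7 b = X 10 (b * a) * (X 7 b * X 9 a) := by
  rw [swap_aux (by norm_num) (by norm_num) (by norm_num) (by decide +kernel),
    show cTerms G2.cert 7 9 = [(10, 3, 1, 1)] by decide +kernel]
  simp [mul_assoc, CharTwo.neg_eq, three_eq_one]

theorem swap98 (a b : F) : X 9 a * X 8 b = X 11 (b * a) * (X 8 b * X 9 a) := by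
  rw [swap_aux (by norm_num) (by norm_num) (by norm_num) (by decide +kernel),
    show cTerms G2.cert 8 9 = [(11, 3, 1, 1)] by decide +kernel]
  simp [mul_assoc, CharTwo.neg_eq, three_eq_one]

theorem swap_comm {r s : ℕ} (h : (r < 12 ∧ s < 12 ∧ s ≠ ng chevG2 r ∧ evenTerms G2.cert r s = true)) (a b : F) :
    X s a * X r b = X r b * X s a :=
  ((xg_commute rooted.toChecked h.1 h.2.1 h.2.2.1 (Or.inr h.2.2.2) a b).eq).symm

theorem swap86 (a b : F) : X 8 a * X 6 b = X 6 b * X 8 a := swap_comm (by decide +kernel) a b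
theorem swap96 (a b : F) : X 9 a * X 6 b = X 6 b * X 9 a := swap_comm (by decide +kernel) a b
theorem swap116 (a b : F) : X 11 a * X 6 b = X 6 b * X 11 a := swap_comm (by decide +kernel) a b
theorem swap107 (a b : F) : X 10 a * X 7 b = X 7 b * X 10 a := swap_comm (by decide +kernel) a b
theorem swap117 (a b : F) : X 11 a * X 7 b = X 7 b * X 11 a := swap_comm (by decide +kernel) a b
theorem swap108 (a b : F) : X 10 a * X 8 b = X 8 b * X 10 a := swap_comm (by decide +kernel) a b
theorem swap118 (a b : F) : X 11 a * X 8 b = X 8 b * X 11 a := swap_comm (by decide +kernel) a b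
theorem swap109 (a b : F) : X 10 a * X 9 b = X 9 b * X 10 a := swap_comm (by decide +kernel) a b
theorem swap119 (a b : F) : X 11 a * X 9 b = X 9 b * X 11 a := swap_comm (by decide +kernel) a b
theorem swap1110 (a b : F) : X 11 a * X 10 b = X 10 b * X 11 a := swap_comm (by decide +kernel) a b

/-- The normal form in the positive unipotent subgroup. -/
noncomputable def P (b a c d e f : F) : GL chevG2.Idx F :=
  X 6 b * (X 7 a * (X 8 c * (X 9 d * (X 10 e * X 11 f))))

omit [CharP F 2] in
theorem P_congr {b a c d e f b' a' c' d' e' f' : F} (h1 : b = b') (h2 : a = a') (h3 : c = c') (h4 : d = d')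
    (h5 : e = e') (h6 : f = f') : P b a c d e f = P b' a' c' d' e' f' := by
  subst_vars; rfl

omit [CharP F 2] in
theorem lift_swap {x y z : GL chevG2.Idx F} (h : x * y = z) (w : GL chevG2.Idx F) : x * (y * w) = z * w := by
  rw [← mul_assoc, h]

/-- The multiplication table. -/
theorem P_mul (b a c d e f b' a' c' d' e' f' : F) :
    P b a c d e f * P b' a' c' d' e' f' = P (b + b') (a + a') (a * b' + c + c') (a ^ 2 * b' + d + d')
      (e + e' + a ^ 3 * b' + a' * (a ^ 2 * b' + d) + a' ^ 2 * (a * b' + c))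
      (f + f' + b' * e + a ^ 2 * b' * c + a' * (a * b' + c) ^ 2 + c' * (a ^ 2 * b' + d)) := by
  have h2 : (2 : F) = 0 := CharTwo.two_eq_zero
  simp only [P, mul_assoc, X_merge', X_merge, swap76, swap106, swap87, swap97, swap98, swap86, swap96, swap116,
    swap107, swap117, swap108, swap118, swap109, swap119, swap1110, lift_swap (swap76 _ _), lift_swap (swap106 _ _),
    lift_swap (swap87 _ _), lift_swap (swap97 _ _), lift_swap (swap98 _ _), lift_swap (swap86 _ _),
    lift_swap (swap96 _ _), lift_swap (swap116 _ _), lift_swap (swap107 _ _), lift_swap (swap117 _ _),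
    lift_swap (swap108 _ _), lift_swap (swap118 _ _), lift_swap (swap109 _ _), lift_swap (swap119 _ _),
    lift_swap (swap1110 _ _)]
  refine P_congr ?_ ?_ ?_ ?_ ?_ ?_ <;> first | ring1 | grind

end Cfsg.Agent.Lib.H59.G2InvTwo
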