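import Cfsg.Agent.Lib.H59.G2InvTwo.Basic
import Cfsg.Agent.Lib.Chev.Simple

/-!
The classes of involutions of the Chevalley group of type G2 in characteristic two.
-/

set_option autoImplicit false

namespace Cfsg.Agent.Lib.H59.G2InvTwo

open Cfsg.Lie Cfsg.Agent.Lib.Chev Cfsg.Agent.Lib.ChevCent
open scoped Matrix

variable {F : Type*} [Field F]

theorem X_mem_group (r : ℕ) (hr : r < 12) (t : F) : X r t ∈ chevG2.group F := by
  unfold X xg
  rw [dif_pos (show r < chevG2.nroots from hr)]
  exact rooted.toChecked.xGL_mem_group _ _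

theorem coe_X (r : ℕ) (t : F) : ((X r t : GL chevG2.Idx F) : Matrix chevG2.Idx chevG2.Idx F) = chevG2.x F r t :=
  coe_xg _ r t

/-- Conjugacy by an element of the group. -/
def Rel (u v : GL chevG2.Idx F) : Prop := ∃ g ∈ chevG2.group F, g * u * g⁻¹ = v

theorem Rel.refl (u : GL chevG2.Idx F) : Rel u u := ⟨1, one_mem _, by group⟩

theorem Rel.trans {u v w : GL chevG2.Idx F} (h₁ : Rel u v) (h₂ : Rel v w) : Rel u w := by
  obtain ⟨g, hg, rfl⟩ := h₁
  obtain ⟨k, hk, rfl⟩ := h₂
  exact ⟨k * g, mul_mem hk hg, by group⟩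

theorem rel_of_eq {g u v : GL chevG2.Idx F} (hg : g ∈ chevG2.group F) (h : g * u = v * g) : Rel u v :=
  ⟨g, hg, by rw [h, mul_inv_cancel_right]⟩

theorem X_eq_xGL {r : ℕ} (hr : r < chevG2.nroots) (t : F) : X r t = xGL rooted.toChecked F hr t := by
  unfold X xg; rw [dif_pos hr]

theorem torus_conj (i r : ℕ) (hi : i < 2) (hr : r < 12) (hc : chevG2.cartan i r = 1) (t : F) (ht : t ≠ 0) :
    Rel (X r t) (X r 1) := by
  refine rel_of_eq (g := torusHom chevG2 F (Pi.mulSingle i (Units.mk0 t ht)⁻¹)) (rooted.torusHom_mem_group _) ?_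
  have e := rooted.toChecked.conj_x (c := Pi.mulSingle i (Units.mk0 t ht)⁻¹) (show r < chevG2.nroots from hr) t
  rw [mul_inv_eq_iff_eq_mul] at e
  rw [X_eq_xGL hr, X_eq_xGL hr, e]
  congr 2
  have hval : torusFun chevG2 (Pi.mulSingle i (Units.mk0 t ht)⁻¹) r = (Units.mk0 t ht)⁻¹ := by
    unfold torusFun
    rw [Finset.prod_eq_single i]
    · simp [hc]
    · intro j _ hj; simp [Ne.symm hj]
    · intro hn; exact absurd (Finset.mem_range.2 hi) hn
  rw [hval]; simp [ht]

variable [CharP F 2]

theorem nS_X {i r : ℕ} (hi : i < 2) (hr : r < 12) (t : F) :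
    nS rooted.toChecked F i * X r t = X (refl G2.cert i r) t * nS rooted.toChecked F i := by
  have e := rooted.toChecked.nS_conj_x (F := F) (show i < chevG2.rank from hi) (show r < chevG2.nroots from hr) t
  rw [X_eq_xGL hr, X_eq_xGL (rooted.toChecked.refl_lt hi hr), e]
  rcases eta_cases (C := G2.cert) i r with w | w <;> simp [w, CharTwo.neg_eq]

theorem P_mem (b a c d e f : F) : P b a c d e f ∈ chevG2.group F := by
  unfold P
  exact mul_mem (X_mem_group _ (by norm_num) _) (mul_mem (X_mem_group _ (by norm_num) _)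
    (mul_mem (X_mem_group _ (by norm_num) _) (mul_mem (X_mem_group _ (by norm_num) _)
    (mul_mem (X_mem_group _ (by norm_num) _) (X_mem_group _ (by norm_num) _)))))

/-- The coordinates as a function of the root. -/
def coord (b a c d e f : F) (r : ℕ) : F :=
  if r = 6 then b else if r = 7 then a else if r = 8 then c else if r = 9 then d else if r = 10 then e
  else if r = 11 then f else 0

omit [CharP F 2] in
theorem P_eq_word (b a c d e f : F) :
    P b a c d e f = word rooted.toChecked [6, 7, 8, 9, 10, 11] (coord b a c d e f) := by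
  simp [P, word, coord, X]

omit [CharP F 2] in
theorem P_inj {b a c d e f b' a' c' d' e' f' : F} (h : P b a c d e f = P b' a' c' d' e' f') :
    b = b' ∧ a = a' ∧ c = c' ∧ d = d' ∧ e = e' ∧ f = f' := by
  rw [P_eq_word, P_eq_word] at h
  have k := word_injective rooted (L := [6, 7, 8, 9, 10, 11]) (by decide +kernel)
    (fun r hr => by
      fin_cases hr <;> exact ⟨by decide +kernel, by decide +kernel⟩) h
  exact ⟨by simpa [coord] using k 6 (by simp), by simpa [coord] using k 7 (by simp),
    by simpa [coord] using k 8 (by simp), by simpa [coord] using k 9 (by simp),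
    by simpa [coord] using k 10 (by simp), by simpa [coord] using k 11 (by simp)⟩

omit [CharP F 2] in
theorem exists_P {u : GL chevG2.Idx F} (hu : u ∈ chevG2.posUnipotent F) :
    ∃ b a c d e f : F, u = P b a c d e f := by
  have h := rooted.toChecked
  rw [h.posUnipotent_eq] at hu
  have hset : ({r | r ∈ [6, 7, 8, 9, 10, 11]} : Set ℕ) = posSet chevG2 := by
    ext r
    simp only [posSet, Set.mem_setOf_eq, show chevG2.nroots = 12 from rfl]
    constructor
    · intro hr; fin_cases hr <;> omega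
    · intro hr
      have h1 : r < 12 := hr.2
      have h2 : 6 ≤ r := by simpa using hr.1
      interval_cases r <;> simp
  obtain ⟨t, -, e⟩ := h.exists_prod [6, 7, 8, 9, 10, 11] (by decide +kernel)
    (fun r hr => hset ▸ hr) (by rw [hset]; exact h.closedSet_pos) u (by rw [hset]; exact hu)
  refine ⟨t 6, t 7, t 8, t 9, t 10, t 11, Units.ext ?_⟩
  rw [e, P_eq_word, coe_word]
  simp [coord]

omit [CharP F 2] in
theorem P_single6 (b : F) : P b 0 0 0 0 0 = X 6 b := by simp [P, X_zero]
omit [CharP F 2] in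
theorem P_single7 (a : F) : P 0 a 0 0 0 0 = X 7 a := by simp [P, X_zero]
omit [CharP F 2] in
theorem P_single8 (c : F) : P 0 0 c 0 0 0 = X 8 c := by simp [P, X_zero]
omit [CharP F 2] in
theorem P_single9 (d : F) : P 0 0 0 d 0 0 = X 9 d := by simp [P, X_zero]
omit [CharP F 2] in
theorem P_single10 (e : F) : P 0 0 0 0 e 0 = X 10 e := by simp [P, X_zero]
omit [CharP F 2] in
theorem P_single11 (f : F) : P 0 0 0 0 0 f = X 11 f := by simp [P, X_zero]

omit [CharP F 2] in
theorem P_one : P (0 : F) 0 0 0 0 0 = 1 := by simp [P, X_zero]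

theorem reduce_d {d e f : F} (hd : d ≠ 0) : Rel (P 0 0 0 d e f) (X 9 1) := by
  refine (rel_of_eq (v := P 0 0 0 d 0 f) (P_mem 0 (e / d) 0 0 0 0) ?_).trans
    ((rel_of_eq (v := P 0 0 0 d 0 0) (P_mem 0 0 (f / d) 0 0 0) ?_).trans
      (P_single9 d ▸ torus_conj 0 9 (by norm_num) (by norm_num) (by decide +kernel) d hd))
  · rw [P_mul, P_mul]; apply P_congr <;> simp <;> field_simp
  · rw [P_mul, P_mul]; apply P_congr <;> simp <;> field_simp

theorem reduce_e {e f : F} (h : e ≠ 0 ∨ f ≠ 0) : Rel (P 0 0 0 0 e f) (X 11 1) := by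
  by_cases he : e = 0
  · subst he
    rw [P_single11]
    exact torus_conj 1 11 (by norm_num) (by norm_num) (by decide +kernel) f (h.resolve_left (by simp))
  refine (rel_of_eq (v := P 0 0 0 0 e 0) (P_mem (f / e) 0 0 0 0 0) ?_).trans ((rel_of_eq (g := nS rooted.toChecked F 1)
    (v := X 11 e) (rooted.nS_mem_group (by decide +kernel)) ?_).trans
    (torus_conj 1 11 (by norm_num) (by norm_num) (by decide +kernel) e he))
  · rw [P_mul, P_mul]; apply P_congr <;> simp <;> field_simp <;> grind
  · rw [P_single10, nS_X (by norm_num) (by norm_num), show refl G2.cert 1 10 = 11 by decide +kernel]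

/-- Conjugation by the fundamental reflections. -/
theorem flip_a (b d f : F) : Rel (P b 0 0 d 0 f) (P 0 0 d 0 b f) := by
  refine rel_of_eq (g := nS rooted.toChecked F 0) (rooted.nS_mem_group (by decide +kernel)) ?_
  have h6 := nS_X (F := F) (i := 0) (r := 6) (by norm_num) (by norm_num) b
  have h9 := nS_X (F := F) (i := 0) (r := 9) (by norm_num) (by norm_num) d
  have h11 := nS_X (F := F) (i := 0) (r := 11) (by norm_num) (by norm_num) f
  rw [show refl G2.cert 0 6 = 10 by decide +kernel] at h6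
  rw [show refl G2.cert 0 9 = 8 by decide +kernel] at h9
  rw [show refl G2.cert 0 11 = 11 by decide +kernel] at h11
  simp only [P, X_zero, one_mul, mul_one]
  rw [lift_swap h6, mul_assoc, lift_swap h9, mul_assoc, h11]
  simp only [← mul_assoc]
  rw [swap108 b d]

theorem flip_b (a e f : F) : Rel (P 0 a 0 0 e f) (P 0 0 a 0 f e) := by
  refine rel_of_eq (g := nS rooted.toChecked F 1) (rooted.nS_mem_group (by decide +kernel)) ?_
  have h7 := nS_X (F := F) (i := 1) (r := 7) (by norm_num) (by norm_num) a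
  have h10 := nS_X (F := F) (i := 1) (r := 10) (by norm_num) (by norm_num) e
  have h11 := nS_X (F := F) (i := 1) (r := 11) (by norm_num) (by norm_num) f
  rw [show refl G2.cert 1 7 = 8 by decide +kernel] at h7
  rw [show refl G2.cert 1 10 = 11 by decide +kernel] at h10
  rw [show refl G2.cert 1 11 = 10 by decide +kernel] at h11
  simp only [P, X_zero, one_mul, mul_one]
  rw [lift_swap h7, mul_assoc, lift_swap h10, mul_assoc, h11]
  simp only [← mul_assoc]
  rw [mul_assoc (X 8 a) (X 11 e), swap1110 e f, ← mul_assoc]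

theorem reduce_c {c d e f : F} (hcd : c * d = 0) (h : c ≠ 0 ∨ d ≠ 0 ∨ e ≠ 0 ∨ f ≠ 0) [PerfectRing F 2] :
    Rel (P 0 0 c d e f) (X 9 1) ∨ Rel (P 0 0 c d e f) (X 11 1) := by
  rcases eq_or_ne c 0 with hc | hc
  · subst hc
    rcases eq_or_ne d 0 with hd | hd
    · subst hd; exact Or.inr (reduce_e (by simpa using h))
    · exact Or.inl (reduce_d hd)
  have hd : d = 0 := (mul_eq_zero.1 hcd).resolve_left hc
  subst hd
  obtain ⟨t, ht⟩ := surjective_frobenius F 2 (e / c)
  rw [frobenius_def] at ht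
  left
  refine (rel_of_eq (v := P 0 0 c 0 0 (f + t * c ^ 2)) (P_mem 0 t 0 0 0 0) ?_).trans ?_
  · rw [P_mul, P_mul]; apply P_congr <;> simp <;> grind
  · refine (rel_of_eq (g := nS rooted.toChecked F 0) (v := P 0 0 0 c 0 (f + t * c ^ 2))
      (rooted.nS_mem_group (by decide +kernel)) ?_).trans (reduce_d hc)
    have h8 := nS_X (F := F) (i := 0) (r := 8) (by norm_num) (by norm_num) c
    have h11 := nS_X (F := F) (i := 0) (r := 11) (by norm_num) (by norm_num) (f + t * c ^ 2)
    rw [show refl G2.cert 0 8 = 9 by decide +kernel] at h8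
    rw [show refl G2.cert 0 11 = 11 by decide +kernel] at h11
    simp only [P, X_zero, one_mul, mul_one]
    rw [lift_swap h8, mul_assoc, h11, ← mul_assoc]

theorem classify_pos [PerfectRing F 2] {b a c d e f : F} (h1 : P b a c d e f ≠ 1)
    (h2 : P b a c d e f * P b a c d e f = 1) :
    Rel (P b a c d e f) (X 9 1) ∨ Rel (P b a c d e f) (X 11 1) := by
  rw [P_mul, ← P_one] at h2
  obtain ⟨-, -, hC, hD, hE, hF⟩ := P_inj h2
  have step : ∀ {c d e f : F}, c * d = 0 → P 0 0 c d e f ≠ 1 →
      Rel (P 0 0 c d e f) (X 9 1) ∨ Rel (P 0 0 c d e f) (X 11 1) := by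
    intro c d e f hcd hne
    refine reduce_c hcd ?_
    by_contra hz
    push Not at hz
    obtain ⟨rfl, rfl, rfl, rfl⟩ := hz
    exact hne P_one
  have rel_ne : ∀ {u v : GL chevG2.Idx F}, Rel u v → u ≠ 1 → v ≠ 1 := by
    rintro u v ⟨g, -, rfl⟩ hu e
    exact hu (by simpa using (mul_inv_eq_one.1 e : g * u = g))
  rcases eq_or_ne a 0 with ha | ha
  · subst ha
    rcases eq_or_ne b 0 with hb | hb
    · subst hb
      exact step (by simpa using hF.trans rfl |> fun h => by grind) h1
    set t := c / b with ht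
    have k1 : Rel (P b 0 c d e f) (P b 0 0 (t ^ 2 * b + d) 0 (f + c * (t ^ 2 * b))) := by
      refine rel_of_eq (P_mem 0 t 0 0 0 0) ?_
      rw [P_mul, P_mul]
      apply P_congr <;> simp [ht] <;> field_simp <;> grind
    have k2 := k1.trans (flip_a _ _ _)
    rcases step (by simp) (rel_ne k2 h1) with h | h
    · exact Or.inl (k2.trans h)
    · exact Or.inr (k2.trans h)
  · have hb : b = 0 := by grind
    subst hb
    set t := c / a with ht
    have k1 : Rel (P 0 a c d e f) (P 0 a 0 0 (e + a ^ 3 * t) (f + t * (e + a ^ 3 * t))) := by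
      refine rel_of_eq (P_mem t 0 0 0 0 0) ?_
      rw [P_mul, P_mul]
      apply P_congr <;> simp [ht] <;> field_simp <;> grind
    have k2 := k1.trans (flip_b _ _ _)
    rcases step (by simp) (rel_ne k2 h1) with h | h
    · exact Or.inl (k2.trans h)
    · exact Or.inr (k2.trans h)

theorem long_perm : ∀ {L : List ℕ}, IsWord chevG2 L → perm G2.cert L 11 ∈ [0, 1, 5, 6, 10, 11]
  | [], _ => by simp [perm]
  | i :: L, hL => by
    have hi : i < 2 := hL.cons.1
    have ih := long_perm hL.cons.2
    rw [perm_cons]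
    have key : ∀ i < 2, ∀ r ∈ [0, 1, 5, 6, 10, 11], refl G2.cert i r ∈ [0, 1, 5, 6, 10, 11] := by decide +kernel
    exact key i hi _ ih

omit [CharP F 2] in
theorem eq_one_of_pos_neg {g : GL chevG2.Idx F} (h₁ : g ∈ chevG2.posUnipotent F) (h₂ : g ∈ chevG2.negUnipotent F) :
    g = 1 := by
  have p := rooted.toChecked.raises_of_mem_posUnipotent h₁
  have n := rooted.toChecked.raises_of_mem_negUnipotent h₂
  refine Units.ext (sub_eq_zero.1 ?_)
  ext y x
  by_contra hne
  have := p y x (by simpa using hne)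
  have hn := n y x (by simpa using hne)
  simp only at hn
  omega

theorem X11_central (t : F) {u : GL chevG2.Idx F} (hu : u ∈ chevG2.posUnipotent F) : Commute (X 11 t) u := by
  obtain ⟨b, a, c, d, e, f, rfl⟩ := exists_P hu
  show _ * _ = _ * _
  rw [← P_single11, P_mul, P_mul]
  apply P_congr <;> ring

theorem not_rel : ¬ Rel (X 11 (1 : F)) (X 9 1) := by
  rintro ⟨g, hg, e⟩
  obtain ⟨L, hL, b, hb, u, hu, rfl⟩ := rooted.exists_canonical hg
  obtain ⟨u₀, hu₀, t, ht, rfl⟩ := rooted.mem_borel_iff.1 hb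
  have huU : u ∈ chevG2.posUnipotent F := by
    rw [rooted.toChecked.posUnipotent_eq]
    exact rootGen_mono (fun r hr => hr.1) hu
  set r := perm G2.cert L 11 with hr
  have hrlt : r < 12 := rooted.toChecked.perm_lt hL (r := 11) (by decide +kernel)
  set n := nProd rooted.toChecked F L
  have hn : n * X 11 (1 : F) * n⁻¹ = X r 1 := by
    rw [mul_inv_eq_iff_eq_mul]
    refine Units.ext ?_
    rw [Units.val_mul, Units.val_mul, coe_X, coe_X, rooted.toChecked.nProd_mul_x hL (by decide +kernel), weta_cast,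
      one_mul]
  rw [rooted.diagonalSubgroup_eq] at ht
  obtain ⟨χ, rfl⟩ := ht
  set lam : F := (torusFun chevG2 χ r : F)
  have htor : torusHom chevG2 F χ * X r (1 : F) * (torusHom chevG2 F χ)⁻¹ = X r lam := by
    rw [X_eq_xGL (show r < chevG2.nroots from hrlt), X_eq_xGL (show r < chevG2.nroots from hrlt),
      rooted.toChecked.conj_x, mul_one]
  have key : u₀ * X r lam = X 9 1 * u₀ := by
    have hc := (X11_central (1 : F) huU).eq
    rw [← e]
    calc u₀ * X r lam = u₀ * (torusHom chevG2 F χ * (n * X 11 1 * n⁻¹) * (torusHom chevG2 F χ)⁻¹) := by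
          rw [hn, htor]
      _ = u₀ * torusHom chevG2 F χ * n * (X 11 1 * u * u⁻¹) * (n⁻¹ * (torusHom chevG2 F χ)⁻¹ * u₀⁻¹) * u₀ := by
          group
      _ = u₀ * torusHom chevG2 F χ * n * (u * X 11 1 * u⁻¹) * (n⁻¹ * (torusHom chevG2 F χ)⁻¹ * u₀⁻¹) * u₀ := by
          rw [hc]
      _ = _ := by group
  have hl : lam ≠ 0 := Units.ne_zero _
  have h9 : X 9 (1 : F) ∈ chevG2.posUnipotent F := by
    rw [rooted.toChecked.posUnipotent_eq]; exact xg_mem_rootGen _ (show (9 : ℕ) ∈ posSet chevG2 from ⟨by decide +kernel, by decide +kernel⟩) _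
  have hmem : X r lam ∈ chevG2.posUnipotent F := by
    rw [show X r lam = u₀⁻¹ * (X 9 1 * u₀) by rw [← key, inv_mul_cancel_left]]
    exact mul_mem (inv_mem hu₀) (mul_mem h9 hu₀)
  obtain ⟨b, a, c, d, e', f, rfl⟩ := exists_P hu₀
  have hneg : r < 6 → False := fun h6 => by
    have hnm : X r lam ∈ chevG2.negUnipotent F := by
      rw [rooted.toChecked.negUnipotent_eq]
      exact xg_mem_rootGen _ (show r ∈ negSet chevG2 from show r < chevG2.nroots / 2 from h6) _
    have h1 := eq_one_of_pos_neg hmem hnm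
    rw [h1, mul_one] at key
    have h2 : (X 9 (1 : F)) = P 0 0 0 0 0 0 := by
      rw [P_one]; exact (mul_eq_right.1 key.symm)
    rw [← P_single9] at h2
    exact one_ne_zero (P_inj h2).2.2.2.1
  have hlong : r ∈ [0, 1, 5, 6, 10, 11] := long_perm hL
  have hcases : r = 0 ∨ r = 1 ∨ r = 5 ∨ r = 6 ∨ r = 10 ∨ r = 11 := by simpa using hlong
  rcases hcases with h | h | h | h | h | h
  · exact hneg (by omega)
  · exact hneg (by omega)
  · exact hneg (by omega)
  all_goals
    rw [h] at key
    first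
      | rw [← P_single6, ← P_single9, P_mul, P_mul] at key
      | rw [← P_single10, ← P_single9, P_mul, P_mul] at key
      | rw [← P_single11, ← P_single9, P_mul, P_mul] at key
    obtain ⟨k6, -, -, k9, -, -⟩ := P_inj key
    grind

end Cfsg.Agent.Lib.H59.G2InvTwo
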